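import Cfsg.Agent.StdO8.Gen_m3
import Cfsg.Agent.StandardComponent.FiRedVec_mg_m3
import Cfsg.Agent.H201.O8.Cover
import Cfsg.Agent.CoOneNWC.OmFacts
import Cfsg.Agent.FastGrp
import Cfsg.Agent.Prune
set_option linter.all false

-- part: H935/OreO8/Gen
section
set_option linter.all false
open scoped Cfsg.Agent.FastGrp

-- part: H935/OreO8/Data
section
/-!
# `Ω₈⁺(2)`: thirty-nine commutators of generating pairs (helper935), data

`(a, b, w, k, u, v, gs)`: `a`, `b` words in Siegel transformations, `w ^ k = X u v` for the word `w` in `a`, `b`, and `gs` words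
in `a`, `b` which move the line `⟨u, v⟩` to the lines of five root elements. A word in `a`, `b` is `(length, bits)`, bit 1 = `a`.
-/

set_option autoImplicit false

namespace Cfsg.Agent.H935.OreO8

/-- one certificate -/
structure Dat where
  a : List (ℕ × ℕ)
  b : List (ℕ × ℕ)
  w : ℕ × ℕ
  k : ℕ
  u : ℕ
  v : ℕ
  gs : List (ℕ × ℕ)
  c : ℕ

/-- the certificates -/
def data : List Dat := [
  ⟨[(176, 109), (80, 34), (179, 17)], [(115, 181), (219, 71), (213, 124)], (4, 7), 3, 88, 129, [(6, 36), (10, 779), (11, 1689), (9, 416), (9, 302)], 12979446098949527772⟩,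
  ⟨[(159, 76), (33, 65), (144, 121)], [(16, 34), (14, 210), (24, 201), (59, 152)], (3, 3), 4, 36, 87, [(10, 839), (11, 1595), (9, 437), (9, 469), (12, 849)], 874024687547986692⟩,
  ⟨[(18, 196), (134, 58), (102, 135), (44, 209)], [(60, 94), (132, 79), (63, 204)], (4, 3), 6, 75, 155, [(4, 13), (11, 1781), (11, 249), (11, 1352), (12, 2545)], 8909669952309512282⟩,
  ⟨[(112, 46), (55, 201), (36, 214), (73, 186)], [(146, 106), (73, 173), (16, 234)], (5, 1), 4, 41, 73, [(11, 1631), (13, 6660), (11, 332), (13, 4638), (2, 1)], 9304684600192533888⟩,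
  ⟨[(6, 24), (134, 100), (65, 62)], [(85, 138), (66, 154), (190, 25), (18, 103)], (3, 3), 6, 28, 103, [(9, 153), (11, 1509), (10, 762), (12, 3004), (12, 3340)], 3723052490355125759⟩,
  ⟨[(133, 25), (120, 154), (128, 84)], [(80, 173), (32, 152), (155, 106), (18, 140)], (3, 3), 4, 6, 112, [(10, 122), (8, 52), (12, 2343), (12, 71), (11, 712)], 13332730836972322104⟩,
  ⟨[(125, 169), (123, 137), (117, 133)], [(60, 74), (1, 14), (234, 99), (32, 220)], (6, 23), 4, 6, 235, [(10, 361), (11, 48), (9, 364), (10, 893), (10, 244)], 4337868515354672176⟩,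
  ⟨[(75, 183), (130, 86), (15, 247), (9, 98)], [(93, 25), (243, 58), (96, 129)], (2, 1), 4, 75, 190, [(9, 39), (10, 997), (11, 1301), (10, 592), (9, 471)], 3248788740302259074⟩,
  ⟨[(180, 98), (90, 147), (175, 106), (45, 85)], [(157, 19), (174, 71), (155, 114)], (1, 0), 3, 97, 157, [(11, 1727), (12, 3496), (10, 745), (5, 23), (11, 1046)], 16216125171541469054⟩,
  ⟨[(7, 57), (93, 140), (150, 98)], [(64, 178), (105, 190), (95, 35), (230, 62)], (3, 1), 6, 24, 205, [(6, 56), (11, 28), (8, 147), (8, 31), (8, 8)], 7393056770562448293⟩,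
  ⟨[(118, 180), (96, 184), (97, 142), (208, 107)], [(32, 29), (26, 99), (40, 151)], (2, 1), 3, 16, 66, [(9, 69), (13, 7083), (9, 121), (5, 25), (10, 810)], 9458579216561078530⟩,
  ⟨[(245, 78), (36, 25), (82, 163)], [(72, 140), (11, 167), (165, 77)], (3, 1), 3, 22, 236, [(11, 1884), (13, 7554), (12, 2523), (12, 3274), (9, 414)], 9250710930311120385⟩,
  ⟨[(51, 89), (59, 75), (73, 142)], [(55, 150), (7, 209), (37, 19), (205, 46)], (5, 5), 3, 45, 131, [(12, 1000), (10, 196), (8, 70), (9, 123), (11, 1753)], 1123939957377974676⟩,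
  ⟨[(16, 100), (210, 58), (60, 81), (73, 21)], [(97, 169), (13, 195), (16, 44), (7, 56)], (2, 1), 6, 44, 150, [(11, 2008), (11, 1858), (7, 23), (11, 377), (12, 564)], 439924361429221765⟩,
  ⟨[(110, 132), (40, 73), (159, 61)], [(126, 42), (103, 147), (73, 146)], (2, 1), 4, 120, 185, [(10, 792), (11, 462), (10, 89), (12, 100), (11, 1647)], 6914593524071409975⟩,
  ⟨[(159, 119), (66, 138), (75, 143), (235, 76)], [(104, 178), (32, 153), (183, 79), (63, 137)], (1, 0), 6, 93, 132, [(13, 7194), (12, 2359), (11, 1363), (10, 691), (11, 1767)], 8664961940922890768⟩,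
  ⟨[(195, 89), (219, 47), (126, 148), (88, 158)], [(236, 23), (189, 121), (87, 38)], (3, 3), 6, 41, 157, [(10, 83), (7, 97), (11, 284), (10, 823), (11, 1647)], 13970202247726389824⟩,
  ⟨[(123, 177), (104, 49), (12, 243)], [(55, 205), (10, 163), (164, 49)], (1, 1), 6, 96, 174, [(10, 404), (10, 274), (10, 367), (13, 1192), (8, 112)], 9386325238037070529⟩,
  ⟨[(30, 75), (24, 108), (37, 140)], [(102, 129), (74, 163), (64, 128)], (2, 1), 3, 12, 51, [(13, 5622), (12, 3073), (12, 3491), (9, 126), (12, 909)], 13007762571504984152⟩,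
  ⟨[(102, 164), (72, 142), (217, 54)], [(175, 124), (15, 244), (103, 49)], (1, 1), 6, 41, 194, [(12, 1438), (12, 423), (13, 1464), (10, 169), (10, 278)], 12309099740744352360⟩,
  ⟨[(12, 244), (11, 160), (33, 73)], [(66, 128), (249, 23), (12, 231), (8, 17)], (2, 1), 3, 10, 183, [(11, 1094), (11, 255), (12, 3699), (10, 54), (10, 858)], 2719792085373938565⟩,
  ⟨[(33, 64), (160, 21), (112, 174), (26, 137)], [(129, 127), (160, 69), (183, 83)], (1, 1), 6, 97, 174, [(13, 779), (13, 4089), (10, 73), (10, 137), (13, 1460)], 7531009797546387957⟩,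
  ⟨[(95, 46), (8, 21), (103, 129)], [(105, 164), (235, 47)], (7, 11), 6, 125, 179, [(12, 3279), (12, 2200), (10, 108), (9, 159), (12, 1003)], 9777231119245115652⟩,
  ⟨[(41, 82), (170, 68), (224, 76)], [(87, 155), (26, 234), (51, 157), (245, 50)], (3, 1), 4, 1, 234, [(10, 422), (10, 484), (10, 943), (3, 5), (10, 1004)], 17296911895783626239⟩,
  ⟨[(20, 107), (65, 148), (80, 149), (37, 141)], [(157, 108), (210, 25), (74, 61)], (3, 3), 6, 2, 204, [(10, 968), (10, 928), (11, 1790), (12, 3574), (7, 22)], 1639628439323285709⟩,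
  ⟨[(146, 39), (56, 145), (8, 86)], [(190, 19), (183, 47), (73, 174), (24, 227)], (4, 3), 3, 5, 90, [(11, 1835), (7, 117), (5, 0), (11, 1613), (4, 13)], 7987111359971833808⟩,
  ⟨[(234, 34), (37, 92), (64, 43), (220, 116)], [(44, 82), (146, 27), (72, 133), (170, 31)], (1, 0), 6, 20, 44, [(11, 1546), (10, 956), (11, 1176), (9, 364), (7, 91)], 7627227057152119006⟩,
  ⟨[(30, 162), (48, 219), (222, 25), (6, 130)], [(48, 143), (74, 62), (213, 39)], (4, 1), 4, 102, 159, [(11, 1871), (11, 1461), (9, 13), (8, 106), (9, 505)], 2637298061044299887⟩,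
  ⟨[(240, 92), (60, 27), (20, 239)], [(230, 84), (80, 160), (103, 62)], (3, 1), 2, 44, 220, [(9, 134), (12, 3163), (9, 219), (10, 263), (12, 3981)], 9383397192032637586⟩,
  ⟨[(210, 109), (16, 168), (126, 129), (37, 199)], [(3, 124), (179, 107), (24, 137)], (5, 15), 4, 120, 161, [(7, 33), (12, 1840), (7, 10), (11, 2022), (8, 151)], 15912856173871448535⟩,
  ⟨[(93, 47), (204, 61), (210, 94)], [(174, 122), (243, 17), (144, 50)], (4, 1), 3, 7, 104, [(12, 3848), (12, 2369), (9, 305), (10, 779), (6, 24)], 11547370252164946529⟩,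
  ⟨[(85, 170), (2, 213), (126, 165)], [(134, 78), (150, 53), (20, 166)], (2, 1), 4, 4, 131, [(10, 991), (8, 221), (11, 1349), (7, 87), (7, 85)], 8678572046609555062⟩,
  ⟨[(88, 140), (14, 118), (224, 109), (74, 135)], [(5, 43), (87, 169), (190, 100)], (7, 3), 4, 97, 157, [(6, 33), (11, 1740), (7, 22), (9, 281), (12, 2230)], 393773000931835474⟩,
  ⟨[(123, 62), (183, 99), (82, 21)], [(112, 133), (194, 107), (1, 10), (52, 197)], (4, 7), 6, 118, 128, [(11, 1843), (10, 605), (9, 196), (11, 1856), (10, 353)], 325699563250943551⟩,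
  ⟨[(7, 49), (51, 131), (40, 206)], [(13, 85), (10, 227), (164, 98), (118, 167)], (3, 1), 3, 97, 157, [(8, 21), (10, 816), (8, 2), (10, 839), (9, 9)], 18056150458342153569⟩,
  ⟨[(67, 165), (189, 119), (10, 65)], [(52, 214), (1, 200), (153, 107), (20, 193)], (3, 3), 2, 13, 33, [(11, 634), (7, 43), (8, 95), (9, 63), (11, 47)], 76281953585750465⟩,
  ⟨[(6, 154), (22, 75), (252, 25)], [(183, 69), (128, 86), (56, 31)], (1, 0), 4, 52, 73, [(10, 855), (11, 1624), (13, 7567), (8, 149), (9, 323)], 13373731138556896585⟩,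
  ⟨[(115, 145), (195, 42), (104, 46), (219, 47)], [(157, 91), (52, 77), (96, 46)], (1, 0), 4, 55, 146, [(11, 1072), (12, 4019), (11, 1366), (12, 3533), (12, 2928)], 7963779238459973079⟩,
  ⟨[(213, 92), (9, 208), (105, 190), (104, 162)], [(40, 93), (176, 99), (103, 34), (36, 157)], (7, 9), 6, 120, 159, [(10, 110), (7, 32), (5, 2), (12, 2671), (10, 816)], 7351944098296018140⟩]

end Cfsg.Agent.H935.OreO8
end

-- part: H935/OreO8/Gen
section
/-!
# `Ω₈⁺(2)`: thirty-nine commutators of generating pairs (helper935)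

* `five`: a subgroup of `Om` with five root elements (the extended diagram) is everything;
* `good_data`: the commutators of the table are commutators of generating pairs.
-/

set_option autoImplicit false

namespace Cfsg.Agent.H935.OreO8

open Cfsg.Agent.StdO8.Model Cfsg.Agent.StdO8.Code Cfsg.Agent.StdO8.Aut
open Cfsg.Agent.StdO8.DataOf (xm)
open Cfsg.Agent.StdO8.Bas (bv wt)

/-! ### Generation -/

theorem bv_dec : ∀ i : Fin 8, bv i = dec (2 ^ i.1) := by decide +kernel

theorem xm_wt {i j : Fin 8} (h : Cfsg.Agent.StdO8.Bas.ok i j) : xm (wt i + wt j) = gen (2 ^ i.1, 2 ^ j.1) := by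
  apply Subtype.ext
  show Cfsg.Agent.StdO8.Bas.xO (wt i + wt j) = X (dec _) (dec _)
  rw [Cfsg.Agent.StdO8.Bas.xO_wt h, Cfsg.Agent.StdO8.Bas.xb, bv_dec, bv_dec]

/-- the derivations `p = [r, s]` -/
def chain : List ((ℕ × ℕ) × (ℕ × ℕ) × (ℕ × ℕ)) :=
  [((1, 64), (1, 32), (2, 64)), ((2, 128), (2, 64), (4, 128)), ((2, 8), (2, 64), (4, 8)), ((16, 64), (2, 64), (16, 32)),
   ((1, 128), (4, 128), (1, 64)), ((2, 4), (4, 128), (2, 8)), ((16, 128), (4, 128), (16, 64)), ((1, 8), (4, 8), (1, 64)),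
   ((8, 16), (4, 8), (16, 64)), ((1, 4), (4, 8), (1, 128)), ((4, 16), (4, 8), (16, 128)), ((32, 64), (16, 32), (1, 64)),
   ((32, 128), (16, 32), (1, 128)), ((8, 32), (16, 32), (1, 8)), ((4, 32), (16, 32), (1, 4)), ((1, 2), (2, 64), (1, 4)),
   ((2, 16), (2, 64), (4, 16)), ((64, 128), (2, 64), (32, 128)), ((8, 64), (2, 64), (8, 32))]

/-- the five root elements -/
def tgt : List (ℕ × ℕ) := [(1, 32), (2, 64), (4, 128), (4, 8), (16, 32)]

/-- all derived root elements -/
def derived : List ((ℕ × ℕ) × (ℕ × ℕ) × (ℕ × ℕ)) → List (ℕ × ℕ) → List (ℕ × ℕ)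
  | [], s => s
  | t :: l, s => derived l (if s.contains t.2.1 && s.contains t.2.2 && same [t.1] [t.2.1, t.2.2, t.2.1, t.2.2] then
      t.1 :: s else s)

theorem derived_mem {K : Subgroup Om} : ∀ (l : List ((ℕ × ℕ) × (ℕ × ℕ) × (ℕ × ℕ))) (s : List (ℕ × ℕ)),
    (∀ p ∈ s, gen p ∈ K) → ∀ p ∈ derived l s, gen p ∈ K
  | [], s, h => h
  | t :: l, s, h => by
    intro p hp
    rw [derived] at hp
    refine derived_mem l _ ?_ p hp
    intro r hr
    split_ifs at hr with hc
    · rcases List.mem_cons.1 hr with rfl | hr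
      · rw [Bool.and_eq_true, Bool.and_eq_true, List.contains_iff_mem, List.contains_iff_mem] at hc
        have h1 := h _ hc.1.1
        have h2 := h _ hc.1.2
        have h3 := word_eq hc.2
        rw [word_single, word_cons, word_cons, word_cons, word_single] at h3
        rw [h3]
        exact mul_mem h1 (mul_mem h2 (mul_mem h1 h2))
      · exact h _ hr
    · exact h _ hr

theorem five {K : Subgroup Om} (h : ∀ p ∈ tgt, gen p ∈ K) : K = ⊤ := by
  have h1 := derived_mem chain tgt h
  rw [eq_top_iff, ← Cfsg.Agent.StdO8.Tri.gen, Subgroup.closure_le]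
  rintro m ⟨s, hs, rfl⟩
  obtain ⟨h2, h3⟩ := Cfsg.Agent.StdO8.Bas.wt_hd s hs
  rw [← h2, xm_wt h3]
  generalize (Cfsg.Agent.StdO8.Bas.hd s).1 = i at h3 ⊢
  generalize (Cfsg.Agent.StdO8.Bas.hd s).2 = j at h3 ⊢
  have key : ∀ i j : Fin 8, Cfsg.Agent.StdO8.Bas.ok i j →
      (2 ^ i.1, 2 ^ j.1) ∈ derived chain tgt ∨ ((2 ^ j.1, 2 ^ i.1) ∈ derived chain tgt ∧
        same [(2 ^ i.1, 2 ^ j.1)] [(2 ^ j.1, 2 ^ i.1)] = true) := by decide +kernel
  rcases key i j h3 with h4 | ⟨h4, h5⟩
  · exact h1 _ h4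
  · have h6 := word_eq h5
    rw [word_single, word_single] at h6
    show gen _ ∈ K
    rw [h6]
    exact h1 _ h4

/-! ### Words in two elements -/

/-- the letters of a word -/
def lt (p : ℕ × ℕ) : List Bool := (List.range p.1).map fun i => p.2.testBit i

/-- a word in two elements -/
noncomputable def wrd (a b : Om) : List Bool → Om
  | [] => 1
  | c :: l => (bif c then a else b) * wrd a b l

/-- its evaluation -/
def evw (a b : List (ℕ × ℕ)) : List Bool → ℕ → ℕ
  | [], v => v
  | c :: l, v => ev (bif c then a else b) (evw a b l v)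

theorem wrd_mem {K : Subgroup Om} {a b : Om} (ha : a ∈ K) (hb : b ∈ K) : ∀ l, wrd a b l ∈ K
  | [] => one_mem _
  | c :: l => by
    rw [wrd]
    refine mul_mem ?_ (wrd_mem ha hb l)
    cases c
    · exact hb
    · exact ha

theorem wrd_dec {a b : List (ℕ × ℕ)} (ha : a.all ok = true) (hb : b.all ok = true) : ∀ (l : List Bool) (v : ℕ),
    ((wrd (word a) (word b) l : Om) : V ≃ₗ[ZMod 2] V) (dec v) = dec (evw a b l v)
  | [], v => rfl
  | c :: l, v => by
    rw [wrd, evw]
    show (((bif c then word a else word b : Om)) : V ≃ₗ[ZMod 2] V) (((wrd (word a) (word b) l : Om) : V ≃ₗ[ZMod 2] V) (dec v)) = _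
    rw [wrd_dec ha hb l]
    cases c
    · exact word_dec hb _
    · exact word_dec ha _

/-! ### Certificates -/

/-- repeated word -/
def rpt (l : List Bool) : ℕ → List Bool
  | 0 => []
  | k + 1 => l ++ rpt l k

/-- one target -/
def chkT (d : Dat) (g : List Bool) (p : ℕ × ℕ) : Bool :=
  ok (evw d.a d.b g d.u, evw d.a d.b g d.v) && ok p &&
    basis.all fun x => xn (evw d.a d.b g d.u) (evw d.a d.b g d.v) x == xn p.1 p.2 x

/-- the checker -/
def chk (d : Dat) : Bool :=
  d.a.all ok && d.b.all ok && ok (d.u, d.v) &&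
    (basis.all fun x => evw d.a d.b (rpt (lt d.w) d.k) x == xn d.u d.v x) &&
    (d.gs.length == 5) && (d.gs.zip tgt).all fun p => chkT d (lt p.1) p.2

theorem closure_eq_top {d : Dat} (h : chk d = true) : Subgroup.closure {word d.a, word d.b} = (⊤ : Subgroup Om) := by
  rw [chk, Bool.and_eq_true, Bool.and_eq_true, Bool.and_eq_true, Bool.and_eq_true, Bool.and_eq_true] at h
  obtain ⟨⟨⟨⟨⟨ha, hb⟩, huv⟩, hw⟩, hl⟩, ht⟩ := h
  set K := Subgroup.closure {word d.a, word d.b} with hK
  have hmem : ∀ l, wrd (word d.a) (word d.b) l ∈ K :=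
    wrd_mem (Subgroup.subset_closure (Or.inl rfl)) (Subgroup.subset_closure (Or.inr rfl))
  have h1 : gen (d.u, d.v) ∈ K := by
    have h2 : gen (d.u, d.v) = wrd (word d.a) (word d.b) (rpt (lt d.w) d.k) := by
      apply Subtype.ext
      apply lin_ext
      intro x hx
      rw [wrd_dec ha hb]
      show X (dec d.u) (dec d.v) (dec x) = _
      rw [X_dec huv, ← eq_of_beq (List.all_eq_true.1 hw x hx)]
    rw [h2]
    exact hmem _
  apply five
  intro p hp
  have h3 : ∃ g, (g, p) ∈ d.gs.zip tgt := by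
    obtain ⟨i, hi, e⟩ := List.mem_iff_getElem.1 hp
    have hi' : i < d.gs.length := by rw [eq_of_beq hl]; exact hi
    refine ⟨d.gs[i], ?_⟩
    rw [List.mem_iff_getElem]
    refine ⟨i, ?_, ?_⟩
    · rw [List.length_zip]; exact lt_min hi' hi
    · rw [List.getElem_zip, e]
  obtain ⟨g, hg⟩ := h3
  have h4 := List.all_eq_true.1 ht _ hg
  simp only [chkT, Bool.and_eq_true] at h4
  obtain ⟨⟨h5, h6⟩, h7⟩ := h4
  set G := wrd (word d.a) (word d.b) (lt g) with hG
  have h8 : gen p = G * gen (d.u, d.v) * G⁻¹ := by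
    apply Subtype.ext
    show X (dec p.1) (dec p.2) = (G : V ≃ₗ[ZMod 2] V) * X (dec d.u) (dec d.v) * (G : V ≃ₗ[ZMod 2] V)⁻¹
    rw [X_conj (Om_le G.2)]
    rw [hG, wrd_dec ha hb, wrd_dec ha hb]
    apply lin_ext
    intro x hx
    have h6' : ok (p.1, p.2) = true := h6
    rw [X_dec h5, X_dec h6', eq_of_beq (List.all_eq_true.1 h7 x hx)]
  rw [h8]
  exact mul_mem (mul_mem (hmem _) h1) (inv_mem (hmem _))

theorem all_split {α : Type*} (f : α → Bool) (n : ℕ) (l : List α) (h1 : (l.take n).all f = true)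
    (h2 : (l.drop n).all f = true) : l.all f = true := by
  rw [← List.take_append_drop n l, List.all_append, h1, h2]
  rfl

theorem chk_part0 : (data.take 8).all chk = true := by decide +kernel

theorem chk_part1 : ((data.drop 8).take 8).all chk = true := by decide +kernel

theorem chk_part2 : (((data.drop 8).drop 8).take 8).all chk = true := by decide +kernel

theorem chk_part3 : ((((data.drop 8).drop 8).drop 8).take 8).all chk = true := by decide +kernel

theorem chk_part4 : ((((data.drop 8).drop 8).drop 8).drop 8).all chk = true := by decide +kernel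

theorem chk_data : data.all chk = true :=
  all_split chk 8 data chk_part0 (all_split chk 8 _ chk_part1 (all_split chk 8 _ chk_part2
    (all_split chk 8 _ chk_part3 chk_part4)))

/-! ### The property -/

/-- a commutator of a generating pair -/
def Good {G : Type*} [Group G] (l : G) : Prop :=
  ∃ a b : G, l = a * b * a⁻¹ * b⁻¹ ∧ Subgroup.closure {a, b} = (⊤ : Subgroup G)

theorem Good.map {G H : Type*} [Group G] [Group H] (e : G ≃* H) {l : G} (h : Good l) : Good (e l) := by
  obtain ⟨a, b, h1, h2⟩ := h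
  refine ⟨e a, e b, ?_, ?_⟩
  · rw [h1, map_mul, map_mul, map_mul, map_inv, map_inv]
  · have h3 := congrArg (Subgroup.map e.toMonoidHom) h2
    rw [MonoidHom.map_closure, Subgroup.map_top_of_surjective _ e.surjective, Set.image_pair] at h3
    exact h3

/-- the commutator -/
noncomputable def cm (d : Dat) : Om := word d.a * word d.b * (word d.a)⁻¹ * (word d.b)⁻¹

theorem good_data {d : Dat} (hd : d ∈ data) : Good (cm d) :=
  ⟨_, _, rfl, closure_eq_top (List.all_eq_true.1 chk_data d hd)⟩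

/-- the word of the commutator -/
def cw (d : Dat) : List (ℕ × ℕ) := d.a ++ (d.b ++ (d.a.reverse ++ d.b.reverse))

theorem word_cw (d : Dat) : word (cw d) = cm d := by
  rw [cw, word_append, word_append, word_append, word_reverse, word_reverse, cm]
  group

/-- the codes of the commutators -/
def chkC (d : Dat) : Bool :=
  (cw d).all ok && (List.range 8).all fun i => ev (cw d) (2 ^ i) == (d.c >>> (8 * i)) % 2 ^ 8

theorem chkC_data : data.all chkC = true := by decide +kernel

theorem cw_dec {d : Dat} (hd : d ∈ data) {i : ℕ} (hi : i < 8) :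
    ((cm d : Om) : V ≃ₗ[ZMod 2] V) (dec (2 ^ i)) = dec ((d.c >>> (8 * i)) % 2 ^ 8) := by
  have h := List.all_eq_true.1 chkC_data d hd
  rw [chkC, Bool.and_eq_true] at h
  rw [← word_cw, word_dec h.1, eq_of_beq (List.all_eq_true.1 h.2 i (List.mem_range.2 hi))]

/-- an isometry with one of the codes is good -/
theorem good_of_code {d : Dat} (hd : d ∈ data) {x : Om}
    (hx : ∀ i < 8, (x : V ≃ₗ[ZMod 2] V) (dec (2 ^ i)) = dec ((d.c >>> (8 * i)) % 2 ^ 8)) : Good x := by
  have h : x = cm d := by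
    apply Subtype.ext
    apply lin_ext
    intro b hb
    have hb' : ∃ i < 8, b = 2 ^ i := by
      simp only [basis, List.mem_cons, List.not_mem_nil, or_false] at hb
      rcases hb with rfl | rfl | rfl | rfl | rfl | rfl | rfl | rfl
      exacts [⟨0, by norm_num, rfl⟩, ⟨1, by norm_num, rfl⟩, ⟨2, by norm_num, rfl⟩, ⟨3, by norm_num, rfl⟩,
        ⟨4, by norm_num, rfl⟩, ⟨5, by norm_num, rfl⟩, ⟨6, by norm_num, rfl⟩, ⟨7, by norm_num, rfl⟩]
    obtain ⟨i, hi, rfl⟩ := hb'
    rw [hx i hi, cw_dec hd hi]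
  rw [h]
  exact good_data hd

/-- conjugates by isometries -/
theorem Good.conj {x : Om} (h : Good x) (M : O8) : Good (cj M x) := h.map (cj M)

end Cfsg.Agent.H935.OreO8
end

private theorem dce_bd8fe8f06de9 : _root_.True := by
  try have : _root_.True := by simp only [_root_.Cfsg.Agent.H935.OreO8.wrd.eq_def]
  try have : _root_.True := by simp only [_root_.Cfsg.Agent.H935.OreO8.derived.eq_2]
  try have : _root_.True := by simp only [_root_.Cfsg.Agent.H935.OreO8.derived.eq_1]
  try have : _root_.True := by simp only [_root_.Cfsg.Agent.H935.OreO8.evw.eq_1]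
  try have : _root_.True := by simp only [_root_.Cfsg.Agent.H935.OreO8.cw.eq_1]
  try have : _root_.True := by simp only [_root_.Cfsg.Agent.H935.OreO8.chkC.eq_1]
  try have : _root_.True := by simp only [_root_.Cfsg.Agent.StdO8.Bas.xb.eq_1]
  try have : _root_.True := by simp only [_root_.Cfsg.Agent.H935.OreO8.evw.eq_def]
  try have : _root_.True := by simp only [_root_.Cfsg.Agent.H935.OreO8.derived.eq_def]
  try have : _root_.True := by simp only [_root_.Cfsg.Agent.H935.OreO8.wrd.eq_2]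
  try have : _root_.True := by simp only [_root_.Cfsg.Agent.H935.OreO8.wrd.eq_1]
  try have : _root_.True := by simp only [_root_.Cfsg.Agent.StdO8.Code.basis.eq_1]
  try have : _root_.True := by simp only [_root_.Cfsg.Agent.H935.OreO8.evw.eq_2]
  try have : _root_.True := by simp only [_root_.Cfsg.Agent.H935.OreO8.cm.eq_1]
  try have : _root_.True := by simp only [_root_.Cfsg.Agent.H935.OreO8.chk.eq_1]
  try have : _root_.True := by simp only [_root_.Cfsg.Agent.H935.OreO8.chkT.eq_1]
  exact _root_.True.intro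
end

-- part: H935/OreO8/Main
section
prune_inst 0x7f00000000000000000000000000000000000000000000000000000000000000000000000000000000000000000000000000000000000000000000000000000000000000000000000000000000000000003fffffffffffffffffffffffffffbeffbdffffffff
set_option linter.all false
open scoped Cfsg.Agent.FastGrp

/-!
# `Ω₈⁺(2)`: every non-trivial element is a commutator of a generating pair (helper935, helper201)

* `good_om`: for `l ≠ 1` in `Om` there are `a`, `b` with `l = a b a⁻¹ b⁻¹` and `⟨a, b⟩ = Om`;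
* `oreO8`: the same for the commutator subgroup `Om8` of the isometry group of the hyperbolic form;
* `good_of_equiv`: the same for every group isomorphic to `PΩ₈⁺(2)` over any field with two elements.
-/

set_option autoImplicit false

namespace Cfsg.Agent.H935.OreO8

open Cfsg.Agent.StdO8.Model Cfsg.Agent.StdO8.Code Cfsg.Agent.StdO8.Aut
open Cfsg.Agent.H612.Ore (col)
open Cfsg.Agent.H201.O8 (act8 reps cover)

theorem rep_cols {g : O8} {c : ℕ} (h : act8.Rep g c) {i : ℕ} (hi : i < 8) :
    (g : V ≃ₗ[ZMod 2] V) (dec (2 ^ i)) = dec (col 8 c i) := by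
  have h1 := congrArg dec (h i hi)
  rwa [Cfsg.Agent.H201.O8.act8_ap, Cfsg.Agent.H201.O8.dec_cd] at h1

theorem codes_eq : (List.range 39).all (fun i => (data.map Dat.c).getD i 0 == reps.getD i 1) = true := by decide +kernel

theorem reps_len : reps.length = 67 := by decide +kernel

theorem data_len : data.length = 39 := by decide +kernel

theorem rep39 : (List.range 8).all (fun i => col 8 (reps.getD 39 0) i == 2 ^ i) = true := by decide +kernel

/-! ### The classes outside `Om` -/

/-- nonsingular vector and word: the representative is the word times the reflection -/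
def odds : List (ℕ × List (ℕ × ℕ)) :=
  [(17, []), 
  (25, [(8, 21)]), 
  (89, [(72, 157), (204, 29)]), 
  (21, [(157, 89), (93, 149)]), 
  (200, [(157, 17)]), 
  (198, [(6, 8), (219, 17)]), 
  (202, [(157, 17), (206, 68)]), 
  (136, [(159, 17), (66, 138)]), 
  (142, [(164, 98), (64, 155), (243, 81)]), 
  (145, [(74, 134), (115, 128), (66, 155)]), 
  (17, [(64, 138), (204, 100)]), 
  (17, [(2, 16)]), 
  (27, [(3, 9), (8, 20)]), 
  (19, [(2, 141), (8, 68), (14, 196)]), 
  (84, [(219, 76), (13, 148), (75, 132)]), 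
  (156, [(217, 84), (157, 71)]), 
  (17, [(220, 70), (22, 142)]), 
  (17, [(2, 84)]), 
  (23, [(18, 97), (20, 99)]), 
  (137, [(96, 23), (252, 113)]), 
  (168, [(189, 17), (67, 174), (160, 68)]), 
  (137, [(3, 64), (96, 159), (52, 81)]), 
  (238, [(249, 84), (63, 203), (30, 131)]), 
  (232, [(175, 19), (48, 64), (2, 220)]), 
  (228, [(90, 49), (144, 68), (15, 51)]), 
  (142, [(2, 80), (12, 196), (183, 17)]), 
  (21, [(28, 204), (234, 127), (133, 107)])]

theorem odds_chk : (List.range 27).all (fun i =>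
    qn (odds.getD i (0, [])).1 && (odds.getD i (0, [])).2.all ok &&
      (List.range 8).all fun j => col 8 (reps.getD (40 + i) 0) j ==
        ev (odds.getD i (0, [])).2 (2 ^ j ^^^ (if Bn (odds.getD i (0, [])).1 (2 ^ j) then (odds.getD i (0, [])).1 else 0))) = true := by
  decide +kernel

theorem odd_notMem {i : ℕ} (h1 : 40 ≤ i) (h2 : i < 67) {x : O8} (hx : act8.Rep x (reps.getD i 0)) :
    (x : V ≃ₗ[ZMod 2] V) ∉ Om := by
  intro hm
  obtain ⟨k, rfl⟩ := Nat.exists_eq_add_of_le h1
  have h3 := List.all_eq_true.1 odds_chk k (List.mem_range.2 (by omega))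
  generalize odds.getD k (0, []) = p at h3
  rw [Bool.and_eq_true, Bool.and_eq_true] at h3
  obtain ⟨⟨hq, hw⟩, hc⟩ := h3
  have hq' : q (dec p.1) ≠ 0 := by
    rw [q_dec, hq]; decide
  refine Cfsg.Agent.StdO8.Gen.refl_notMem (dec p.1) hq' ?_
  have e : Cfsg.Agent.LieClassical.OrthCore.refl q (dec p.1) hq' = ((word p.2 : Om) : V ≃ₗ[ZMod 2] V)⁻¹ * (x : V ≃ₗ[ZMod 2] V) := by
    rw [eq_inv_mul_iff_mul_eq]
    apply lin_ext
    intro b hb
    obtain ⟨j, hj, rfl⟩ := Cfsg.Agent.H201.O8.mem_basis hb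
    show ((word p.2 : Om) : V ≃ₗ[ZMod 2] V) (Cfsg.Agent.LieClassical.OrthCore.refl q (dec p.1) hq' (dec (2 ^ j))) = _
    rw [Cfsg.Agent.StdO8.Gen.refl_dec, word_dec hw, rep_cols hx hj, eq_of_beq (List.all_eq_true.1 hc j (List.mem_range.2 hj))]
  rw [e]
  exact mul_mem (inv_mem (word p.2).2) hm

/-! ### The theorem -/

theorem good_om (l : Om) (hl : l ≠ 1) : Good l := by
  obtain ⟨r, hr, h, x, hx, e⟩ := cover ⟨(l : V ≃ₗ[ZMod 2] V), Om_le l.2⟩
  obtain ⟨i, hi, hri⟩ := List.mem_iff_getElem.1 hr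
  have hget : ∀ d, reps.getD i d = r := fun d => by rw [List.getD_eq_getElem _ _ hi, hri]
  rw [reps_len] at hi
  have e1 : (x : V ≃ₗ[ZMod 2] V) = (h : V ≃ₗ[ZMod 2] V)⁻¹ * (l : V ≃ₗ[ZMod 2] V) * (h : V ≃ₗ[ZMod 2] V) := by
    have e2 := congrArg (Subtype.val) e
    have e3 : (l : V ≃ₗ[ZMod 2] V) = (h : V ≃ₗ[ZMod 2] V) * (x : V ≃ₗ[ZMod 2] V) * (h : V ≃ₗ[ZMod 2] V)⁻¹ := e2
    rw [e3]
    group
  have hxO : (x : V ≃ₗ[ZMod 2] V) ∈ Om := by
    rw [e1]
    have := (cj h⁻¹ l).2
    rw [cj_coe] at this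
    simpa using this
  have e4 : l = cj h ⟨x, hxO⟩ := by
    apply Subtype.ext
    rw [cj_coe, e1]
    group
  rcases lt_or_ge i 39 with h1 | h1
  · rw [e4]
    apply Good.conj
    have h2 : (data.map Dat.c).getD i 0 = r := by
      rw [eq_of_beq (List.all_eq_true.1 codes_eq i (List.mem_range.2 h1)), hget]
    have h3 : i < data.length := by rw [data_len]; exact h1
    rw [List.getD_eq_getElem _ _ (by rw [List.length_map]; exact h3), List.getElem_map] at h2
    apply good_of_code (d := data[i]) (List.getElem_mem h3)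
    intro j hj
    rw [h2]
    exact rep_cols hx hj
  · rcases eq_or_lt_of_le h1 with h1 | h1
    · exfalso
      apply hl
      subst h1
      have e5 : (x : V ≃ₗ[ZMod 2] V) = 1 := by
        apply lin_ext
        intro b hb
        obtain ⟨j, hj, rfl⟩ := Cfsg.Agent.H201.O8.mem_basis hb
        rw [rep_cols hx hj, ← hget 0, eq_of_beq (List.all_eq_true.1 rep39 j (List.mem_range.2 hj))]
        rfl
      rw [e4]
      have e6 : (⟨x, hxO⟩ : Om) = 1 := Subtype.ext e5
      rw [e6, map_one]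
    · rw [← hget 0] at hx
      exact absurd hxO (odd_notMem h1 hi hx)

theorem good_of_om {G : Type*} [Group G] (e : Om ≃* G) {l : G} (hl : l ≠ 1) : Good l := by
  have h := (good_om (e.symm l) (fun h => hl (by rw [← e.apply_symm_apply l, h, map_one]))).map e
  rwa [e.apply_symm_apply] at h

/-- every non-trivial element of `Om8` is a commutator of a generating pair -/
theorem oreO8 (l : Cfsg.Agent.CoOneNWC.OmFacts.Om8) (hl : l ≠ 1) : ∃ a b : Cfsg.Agent.CoOneNWC.OmFacts.Om8,
    a * b * a⁻¹ * b⁻¹ = l ∧ Subgroup.closure {a, b} = ⊤ := by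
  have e3 : Cfsg.Agent.CoOneNWC.OmFacts.Om8 ≃* Om := by
    show Cfsg.Omega (ZMod 2) (Cfsg.quadFormPlus 4 (ZMod 2)) ≃* Om
    rw [← Cfsg.Agent.LieClassical.QuadForms.coe_plusForm]
    exact Cfsg.Agent.AutOrth.Main.oe good
  obtain ⟨a, b, h1, h2⟩ := good_of_om e3.symm hl
  exact ⟨a, b, h1.symm, h2⟩

end Cfsg.Agent.H935.OreO8
end
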